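import Mathlib
import Groth.Agent.CAlgMisc2.TorsionFree

/-!
# Algebraic input for descending dense opens along a field extension

* `exists_ne_zero_aeval_ne_zero`: for a nonzero polynomial over an extension field `K/k` there is
  a nonzero polynomial over `k` outside whose zero locus no `k̄`-point is a zero of the given one.
* `eq_bot_of_comap_...`: for a finitely generated domain `A` finite over `P = k[x]`, an ideal of
  `A ⊗ K` that lies in no minimal prime meets `P ⊗ K` nontrivially.
* `exists_ne_zero_forall_algHom`: the combination.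
-/

set_option autoImplicit false

universe u

open TensorProduct

namespace Groth.Agent.DenseK8

theorem exists_ne_zero_aeval_ne_zero (k K : Type u) [Field k] [Field K] [Algebra k K] {σ : Type}
    [Finite σ] (G : MvPolynomial σ K) (hG : G ≠ 0) :
    ∃ h : MvPolynomial σ k, h ≠ 0 ∧
      ∀ (kb Ω : Type u) [Field kb] [Algebra k kb] [Algebra.IsAlgebraic k kb]
        [Field Ω] [Algebra k Ω] [Algebra kb Ω] [Algebra K Ω] [IsScalarTower k kb Ω]
        [IsScalarTower k K Ω] (a : σ → kb), MvPolynomial.aeval a h ≠ 0 →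
        MvPolynomial.aeval (fun i => algebraMap kb Ω (a i)) G ≠ 0 := by
  classical
  obtain ⟨d, hd⟩ := MvPolynomial.ne_zero_iff.1 hG
  let R : Subalgebra k K :=
    Algebra.adjoin k ((↑(G.support.image (fun e => G.coeff e)) : Set K) ∪ {(G.coeff d)⁻¹})
  haveI : Algebra.FiniteType k R :=
    (Subalgebra.fg_iff_finiteType R).1
      (Subalgebra.fg_def.2 ⟨_, (Finset.finite_toSet _).union (Set.finite_singleton _), rfl⟩)
  have hmem : ∀ e, G.coeff e ∈ R := fun e => by
    by_cases he : e ∈ G.support
    · exact Algebra.subset_adjoin (Or.inl (by exact_mod_cast Finset.mem_image_of_mem _ he))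
    · rw [MvPolynomial.notMem_support_iff.1 he]; exact R.zero_mem
  have hinv : (G.coeff d)⁻¹ ∈ R := Algebra.subset_adjoin (Or.inr rfl)
  obtain ⟨GR, hGR⟩ : ∃ GR : MvPolynomial σ R, MvPolynomial.map (R.val.toRingHom) GR = G := by
    refine MvPolynomial.mem_range_map_iff_coeffs_subset.2 ?_ 
    intro c hc
    obtain ⟨e, he, rfl⟩ := MvPolynomial.mem_coeffs_iff.1 hc
    exact ⟨⟨_, hmem e⟩, rfl⟩
  obtain ⟨m, hm⟩ := Ideal.exists_maximal R
  letI : Field (R ⧸ m) := Ideal.Quotient.field m
  haveI : Module.Finite k (R ⧸ m) := finite_of_finite_type_of_isJacobsonRing k _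
  have hGm : MvPolynomial.map (Ideal.Quotient.mk m) GR ≠ 0 := by
    intro h0
    have hcd : Ideal.Quotient.mk m (GR.coeff d) = 0 := by
      rw [← MvPolynomial.coeff_map, h0, MvPolynomial.coeff_zero]
    rw [Ideal.Quotient.eq_zero_iff_mem] at hcd
    have hu : IsUnit (GR.coeff d) := by
      refine IsUnit.of_mul_eq_one (⟨_, hinv⟩ : R) (Subtype.ext ?_)
      have : ((GR.coeff d : R) : K) = G.coeff d := by
        conv_rhs => rw [← hGR, MvPolynomial.coeff_map]
        rfl
      simp [this, hd]
    exact hm.ne_top (m.eq_top_of_isUnit_mem hcd hu)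
  letI : Algebra (MvPolynomial σ k) (MvPolynomial σ (R ⧸ m)) := MvPolynomial.algebraMvPolynomial
  haveI : Algebra.IsIntegral (MvPolynomial σ k) (MvPolynomial σ (R ⧸ m)) := by
    constructor
    intro p
    induction p using MvPolynomial.induction_on with
    | C c =>
      exact IsIntegral.map_of_comp_eq (MvPolynomial.C (σ := σ)) (MvPolynomial.C (σ := σ))
        (by
          apply RingHom.ext; intro x
          change MvPolynomial.map (algebraMap k (R ⧸ m)) (MvPolynomial.C x) = _
          rw [MvPolynomial.map_C]; rfl)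
        (Algebra.IsIntegral.isIntegral (R := k) c)
    | add p q hp hq => exact hp.add hq
    | mul_X p i hp =>
      have : MvPolynomial.X i = algebraMap (MvPolynomial σ k) (MvPolynomial σ (R ⧸ m)) (MvPolynomial.X i) := by
        exact (MvPolynomial.map_X _ i).symm
      rw [this]
      exact hp.mul isIntegral_algebraMap
  have hne : (Ideal.span {MvPolynomial.map (Ideal.Quotient.mk m) GR}).comap
      (algebraMap (MvPolynomial σ k) (MvPolynomial σ (R ⧸ m))) ≠ ⊥ := fun h0 =>
    hGm (Ideal.span_singleton_eq_bot.1 (Ideal.eq_bot_of_comap_eq_bot h0))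
  obtain ⟨h, hh, hh0⟩ := Submodule.exists_mem_ne_zero_of_ne_bot hne
  refine ⟨h, hh0, ?_⟩
  intro kb Ω _ _ _ _ _ _ _ _ _ a ha hzero
  apply ha
  haveI : IsScalarTower k R Ω := IsScalarTower.of_algebraMap_eq (R := k) (S := R) (A := Ω) fun x =>
    IsScalarTower.algebraMap_apply k K Ω x
  let S := integralClosure R Ω
  have hkb : ∀ x : kb, algebraMap kb Ω x ∈ S := fun x =>
    ((Algebra.IsIntegral.isIntegral (R := k) x).map
      (IsScalarTower.toAlgHom k kb Ω)).tower_top
  haveI : FaithfulSMul R S := by
    rw [faithfulSMul_iff_algebraMap_injective]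
    intro x y hxy
    have h1 : algebraMap R Ω x = algebraMap R Ω y := congrArg Subtype.val hxy
    exact Subtype.ext ((algebraMap K Ω).injective h1)
  obtain ⟨M, -, hM, hMm⟩ := Ideal.exists_ideal_over_prime_of_isIntegral m (⊥ : Ideal S)
    (by
      intro x hx
      have : algebraMap R S x = algebraMap R S 0 := by simpa using hx
      rw [FaithfulSMul.algebraMap_injective R S this]
      exact m.zero_mem)
  let q : R ⧸ m →+* S ⧸ M :=
    Ideal.Quotient.lift m ((Ideal.Quotient.mk M).comp (algebraMap R S)) fun x hx => by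
      rw [RingHom.comp_apply, Ideal.Quotient.eq_zero_iff_mem]
      rwa [← hMm] at hx
  let a' : σ → S := fun i => ⟨algebraMap kb Ω (a i), hkb _⟩
  -- the polynomial vanishes at the point in the integral closure
  have h1 : MvPolynomial.eval₂ (algebraMap R S) a' GR = 0 := by
    apply Subtype.ext
    have h2 : S.val.toRingHom (MvPolynomial.eval₂ (algebraMap R S) a' GR) =
        MvPolynomial.eval₂ (algebraMap R Ω) (fun i => algebraMap kb Ω (a i)) GR := by
      rw [MvPolynomial.eval₂_comp_left]
      rfl
    have h3 : MvPolynomial.eval₂ (algebraMap R Ω) (fun i => algebraMap kb Ω (a i)) GR = 0 := by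
      have hz : MvPolynomial.eval₂ (algebraMap K Ω) (fun i => algebraMap kb Ω (a i)) G = 0 := hzero
      rw [← hGR, MvPolynomial.eval₂_map] at hz
      exact hz
    exact h2.trans h3
  -- hence so does `h` modulo `M`
  have h4 : Ideal.Quotient.mk M
      (MvPolynomial.eval₂ ((algebraMap R S).comp (algebraMap k R)) a' h) = 0 := by
    obtain ⟨Q, hQ⟩ := Ideal.mem_span_singleton.1 (Ideal.mem_comap.1 hh)
    have h5 : Ideal.Quotient.mk M
        (MvPolynomial.eval₂ ((algebraMap R S).comp (algebraMap k R)) a' h) =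
        MvPolynomial.eval₂ q (fun i => Ideal.Quotient.mk M (a' i))
          (algebraMap (MvPolynomial σ k) (MvPolynomial σ (R ⧸ m)) h) := by
      rw [MvPolynomial.algebraMap_def, MvPolynomial.eval₂_map, MvPolynomial.eval₂_comp_left]
      rfl
    rw [h5, hQ, MvPolynomial.eval₂_mul, MvPolynomial.eval₂_map]
    have h6 : MvPolynomial.eval₂ (q.comp (Ideal.Quotient.mk m))
        (fun i => Ideal.Quotient.mk M (a' i)) GR = 0 := by
      have := congrArg (Ideal.Quotient.mk M) h1
      rw [MvPolynomial.eval₂_comp_left, map_zero] at this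
      exact this
    rw [h6, zero_mul]
  have h7 : ((MvPolynomial.eval₂ ((algebraMap R S).comp (algebraMap k R)) a' h : S) : Ω) =
      algebraMap kb Ω (MvPolynomial.aeval a h) := by
    rw [MvPolynomial.aeval_def, MvPolynomial.eval₂_comp_left (algebraMap kb Ω)]
    change S.val.toRingHom _ = _
    rw [MvPolynomial.eval₂_comp_left]
    congr 1
    ext x
    change algebraMap R Ω (algebraMap k R x) = algebraMap kb Ω (algebraMap k kb x)
    rw [← IsScalarTower.algebraMap_apply, ← IsScalarTower.algebraMap_apply]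
  by_contra hne'
  have hu : MvPolynomial.eval₂ ((algebraMap R S).comp (algebraMap k R)) a' h *
      ⟨algebraMap kb Ω (MvPolynomial.aeval a h)⁻¹, hkb _⟩ = 1 := by
    apply Subtype.ext
    change ((MvPolynomial.eval₂ _ a' h : S) : Ω) * _ = 1
    rw [h7, ← map_mul, mul_inv_cancel₀ hne', map_one]
  exact hM.ne_top (M.eq_top_of_isUnit_mem (Ideal.Quotient.eq_zero_iff_mem.1 h4)
    (IsUnit.of_mul_eq_one _ hu))

theorem exists_mem_tensor_ne_zero (k K : Type u) [Field k] [Field K] [Algebra k K]
    (A : Type u) [CommRing A] [IsDomain A] [Algebra k A] {s : ℕ}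
    (g : MvPolynomial (Fin s) k →ₐ[k] A) (hg : Function.Injective g) (hgf : g.Finite)
    (J : Ideal (A ⊗[k] K)) (hJ : ∀ q ∈ minimalPrimes (A ⊗[k] K), ¬ J ≤ q) :
    ∃ G : MvPolynomial (Fin s) k ⊗[k] K, G ≠ 0 ∧
      Algebra.TensorProduct.map g (AlgHom.id k K) G ∈ J := by
  classical
  let P := MvPolynomial (Fin s) k
  letI : Algebra P A := g.toRingHom.toAlgebra
  haveI : IsScalarTower k P A := IsScalarTower.of_algebraMap_eq fun x => (g.commutes x).symm
  haveI : Module.Finite P A := hgf
  haveI : Module.IsTorsionFree P A :=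
    Module.isTorsionFree_iff_smul_eq_zero.2 fun p a h => by
      have h' : g p * a = 0 := h
      rcases mul_eq_zero.1 h' with hp | ha
      · exact Or.inl (hg (hp.trans (map_zero g).symm))
      · exact Or.inr ha
  obtain ⟨n, ψ, hψ⟩ := CAlgMisc2.exists_injective_pi (R := P) (M := A)
  let μ : P ⊗[k] K →ₐ[k] A ⊗[k] K := Algebra.TensorProduct.map g (AlgHom.id k K)
  let Λ : Fin n → (A ⊗[k] K →ₗ[k] P ⊗[k] K) := fun j =>
    (((LinearMap.proj j).comp ψ).restrictScalars k).rTensor K
  have hlin : ∀ (j : Fin n) (t : P ⊗[k] K) (c : A ⊗[k] K), Λ j (μ t * c) = t * Λ j c := by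
    intro j t
    induction t with
    | zero => intro c; simp
    | add t₁ t₂ h₁ h₂ => intro c; rw [map_add, add_mul, map_add, h₁, h₂, add_mul]
    | tmul p x =>
      intro c
      induction c with
      | zero => simp
      | add c₁ c₂ h₁ h₂ => rw [mul_add, map_add, h₁, h₂, map_add, mul_add]
      | tmul b y =>
        rw [Algebra.TensorProduct.map_tmul, Algebra.TensorProduct.tmul_mul_tmul,
          LinearMap.rTensor_tmul, LinearMap.rTensor_tmul, Algebra.TensorProduct.tmul_mul_tmul]
        simp only [AlgHom.coe_id, id_eq, LinearMap.coe_restrictScalars, LinearMap.coe_comp,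
          Function.comp_apply, LinearMap.proj_apply]
        have : ψ (g p * b) j = p * ψ b j := by
          change ψ (p • b) j = _
          rw [map_smul]; rfl
        rw [this]
  have hsep : ∀ c : A ⊗[k] K, (∀ j, Λ j c = 0) → c = 0 := by
    intro c hc
    apply Module.Flat.rTensor_preserves_injective_linearMap (ψ.restrictScalars k) hψ
    apply (TensorProduct.piLeft (R := k) (N := K) (M := fun _ : Fin n => P)).injective
    rw [map_zero, map_zero]
    funext j
    have : ∀ c : A ⊗[k] K, (TensorProduct.piLeft (R := k) (N := K) (M := fun _ : Fin n => P))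
        ((ψ.restrictScalars k).rTensor K c) j = Λ j c := by
      intro c
      induction c with
      | zero => simp
      | add c₁ c₂ h₁ h₂ => rw [map_add, map_add, Pi.add_apply, h₁, h₂, map_add]
      | tmul b y => simp [Λ]
    rw [this, hc j]; rfl
  haveI : IsDomain (P ⊗[k] K) :=
    ((Algebra.TensorProduct.comm k P K).toRingEquiv.trans
      (MvPolynomial.scalarRTensorAlgEquiv (R := k) (N := K) (σ := Fin s)).toRingEquiv).toMulEquiv.isDomain
      (MvPolynomial (Fin s) K)
  have htf : ∀ (t : P ⊗[k] K) (c : A ⊗[k] K), t ≠ 0 → μ t * c = 0 → c = 0 := by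
    intro t c ht h0
    apply hsep
    intro j
    have := hlin j t c
    rw [h0, map_zero] at this
    exact (mul_eq_zero.1 this.symm).resolve_left ht
  have hinj : Function.Injective μ := by
    rw [injective_iff_map_eq_zero]
    intro t ht
    by_contra ht0
    exact one_ne_zero (htf t 1 ht0 (by rw [ht, zero_mul]))
  letI : Algebra (P ⊗[k] K) (A ⊗[k] K) := μ.toRingHom.toAlgebra
  haveI : Algebra.IsIntegral (P ⊗[k] K) (A ⊗[k] K) := by
    constructor
    intro c
    induction c with
    | zero => exact isIntegral_zero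
    | add c₁ c₂ h₁ h₂ => exact h₁.add h₂
    | tmul b y =>
      have hb : IsIntegral P b := Algebra.IsIntegral.isIntegral b
      have h1 : IsIntegral (P ⊗[k] K) (b ⊗ₜ[k] (1 : K)) := by
        obtain ⟨p, hp, hp0⟩ := hb
        refine ⟨p.map (Algebra.TensorProduct.includeLeftRingHom), hp.map _, ?_⟩
        rw [Polynomial.eval₂_map]
        have := congrArg (Algebra.TensorProduct.includeLeftRingHom (R := k) (B := K)) hp0
        rw [Polynomial.hom_eval₂, map_zero] at this
        have hcomp : (algebraMap (P ⊗[k] K) (A ⊗[k] K)).comp Algebra.TensorProduct.includeLeftRingHom =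
            (Algebra.TensorProduct.includeLeftRingHom (R := k) (B := K)).comp (algebraMap P A) := by
          apply RingHom.ext
          intro a
          change μ (a ⊗ₜ[k] 1) = g a ⊗ₜ[k] (1 : K)
          simp [μ]
        rw [hcomp]
        exact this
      have h2 : IsIntegral (P ⊗[k] K) ((1 : A) ⊗ₜ[k] y) := by
        have : μ ((1 : P) ⊗ₜ[k] y) = (1 : A) ⊗ₜ[k] y := by simp [μ]
        rw [← this]
        exact isIntegral_algebraMap
      simpa using h1.mul h2
  haveI : Nontrivial (A ⊗[k] K) := hinj.nontrivial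
  by_contra hall
  push Not at hall
  have hbot : J.comap (algebraMap (P ⊗[k] K) (A ⊗[k] K)) ≤ ⊥ := by
    intro t ht
    by_contra ht0
    exact hall t (by simpa using ht0) ht
  obtain ⟨Q, hJQ, hQ, hQ0⟩ := Ideal.exists_ideal_over_prime_of_isIntegral (⊥ : Ideal (P ⊗[k] K)) J hbot
  obtain ⟨q, hq, hqQ⟩ := Ideal.exists_minimalPrimes_le (I := (⊥ : Ideal (A ⊗[k] K))) (J := Q) bot_le
  have hqQ' : q = Q := by
    haveI := hq.1.1
    by_contra hne
    have hlt : q < Q := lt_of_le_of_ne hqQ hne
    have hq0 : q.comap (algebraMap (P ⊗[k] K) (A ⊗[k] K)) = ⊥ :=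
      le_bot_iff.1 ((Ideal.comap_mono hqQ).trans hQ0.le)
    exact lt_irrefl _ (lt_of_lt_of_eq
      (Ideal.comap_lt_comap_of_integral_mem_sdiff (I := q) (J := Q) hqQ (Set.nonempty_of_ssubset hlt).choose_spec
        (Algebra.IsIntegral.isIntegral (R := P ⊗[k] K) _)) (hQ0.trans hq0.symm))
  exact hJ q hq (hqQ' ▸ hJQ)

end Groth.Agent.DenseK8
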