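import Mathlib
import Groth.Agent.DenseK8.Algebra

/-!
# Rational points over the algebraic closure in a descended dense open
-/

set_option autoImplicit false
set_option backward.isDefEq.respectTransparency.types false

universe u

open CategoryTheory Limits AlgebraicGeometry TensorProduct

namespace Groth.Agent.DenseK8

/-- A dense open of the spectrum of a Noetherian ring contains every minimal prime. -/
theorem mem_of_dense_of_minimal {B : Type u} [CommRing B] [IsNoetherianRing B]
    {W : Set (PrimeSpectrum B)} (hW : IsOpen W) (hWd : Dense W) {q : Ideal B}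
    (hq : q ∈ minimalPrimes B) (hq' : q.IsPrime) : (⟨q, hq'⟩ : PrimeSpectrum B) ∈ W := by
  have hZ : PrimeSpectrum.zeroLocus (q : Set B) ∈ irreducibleComponents (PrimeSpectrum B) := by
    rw [← PrimeSpectrum.zeroLocus_minimalPrimes]
    exact ⟨q, hq, rfl⟩
  obtain ⟨o, ho, hone, hole⟩ :=
    TopologicalSpace.NoetherianSpace.exists_isOpen_nonempty_subset_irreducibleComponent _ hZ
  obtain ⟨p, hpo, hpW⟩ := hWd.inter_open_nonempty o ho hone
  exact ((PrimeSpectrum.le_iff_specializes ⟨q, hq'⟩ p).1 (hole hpo)).mem_open hW hpW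

variable {k K : Type u} [Field k] [Field K] [Algebra k K] (X : Scheme.{u})
  (f : X ⟶ Spec (CommRingCat.of k))

/-- The property asked of the open subscheme downstairs. -/
def IsGood (U' : (pullback f (Spec.map (CommRingCat.ofHom (algebraMap k K)))).Opens)
    (U : X.Opens) : Prop :=
  ∀ (kb Ω : Type u) [Field kb] [Algebra k kb] [IsAlgClosure k kb]
    [Field Ω] [Algebra k Ω] [Algebra kb Ω] [Algebra K Ω] [IsScalarTower k kb Ω] [IsScalarTower k K Ω]
    (x : Spec (CommRingCat.of kb) ⟶ X),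
    x ≫ f = Spec.map (CommRingCat.ofHom (algebraMap k kb)) →
    (∀ t : ↥(Spec (CommRingCat.of kb)), x.base t ∈ U) →
    ∀ (y : Spec (CommRingCat.of Ω) ⟶ pullback f (Spec.map (CommRingCat.ofHom (algebraMap k K)))),
      y ≫ pullback.fst f (Spec.map (CommRingCat.ofHom (algebraMap k K))) =
          Spec.map (CommRingCat.ofHom (algebraMap kb Ω)) ≫ x →
      y ≫ pullback.snd f (Spec.map (CommRingCat.ofHom (algebraMap k K))) =
          Spec.map (CommRingCat.ofHom (algebraMap K Ω)) →
      ∀ t : ↥(Spec (CommRingCat.of Ω)), y.base t ∈ U'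

theorem isGood_sSup (U' : (pullback f (Spec.map (CommRingCat.ofHom (algebraMap k K)))).Opens) :
    IsGood X f U' (sSup {U | IsGood X f U' U}) := by
  intro kb Ω _ _ _ _ _ _ _ _ _ x hxf hx y hy1 hy2 t
  obtain ⟨t₀⟩ : Nonempty ↥(Spec (CommRingCat.of kb)) := inferInstanceAs (Nonempty (PrimeSpectrum kb))
  obtain ⟨U, hU, hxU⟩ := TopologicalSpace.Opens.mem_sSup.1 (hx t₀)
  refine hU kb Ω x hxf (fun t' => ?_) y hy1 hy2 t
  haveI : Subsingleton ↥(Spec (CommRingCat.of kb)) := inferInstanceAs (Subsingleton (PrimeSpectrum kb))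
  rwa [Subsingleton.elim t' t₀]

/-- One affine piece with integral domain of functions. -/
theorem exists_good_of_domain
    (U' : (pullback f (Spec.map (CommRingCat.ofHom (algebraMap k K)))).Opens)
    (hU' : Dense (U' : Set ↥(pullback f (Spec.map (CommRingCat.ofHom (algebraMap k K))))))
    (A : Type u) [CommRing A] [IsDomain A] [Algebra k A] [Algebra.FiniteType k A]
    (m : Spec (CommRingCat.of A) ⟶ X) [IsImmersion m] (hm : IsOpen (Set.range m.base))
    (hmf : m ≫ f = Spec.map (CommRingCat.ofHom (algebraMap k A)))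
    (hlift : ∀ (kb : Type u) [Field kb] (x : Spec (CommRingCat.of kb) ⟶ X),
      Set.range x.base ⊆ Set.range m.base →
        ∃ a : A →+* kb, Spec.map (CommRingCat.ofHom a) ≫ m = x) :
    ∃ U : X.Opens, (U : Set X).Nonempty ∧ (U : Set X) ⊆ Set.range m.base ∧ IsGood X f U' U := by
  classical
  have hmo : Topology.IsOpenEmbedding m.base := ⟨m.isEmbedding, hm⟩
  let b := Spec.map (CommRingCat.ofHom (algebraMap k K))
  let fA := Spec.map (CommRingCat.ofHom (algebraMap k A))
  let e : pullback fA b ⟶ pullback f b :=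
    pullback.map fA b f b m (𝟙 _) (𝟙 _) (by rw [Category.comp_id]; exact hmf.symm) (by simp)
  have hsq : IsPullback e (pullback.fst fA b) (pullback.fst f b) m := by
    refine (IsPullback.of_bot ?_ (pullback.lift_fst _ _ _).symm (IsPullback.of_hasPullback f b)).flip
    rw [show e ≫ pullback.snd f b = pullback.snd fA b from (pullback.lift_snd _ _ _).trans (Category.comp_id _), hmf]
    exact IsPullback.of_hasPullback fA b
  haveI : IsImmersion e := MorphismProperty.of_isPullback hsq.flip inferInstance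
  have herange : Set.range e.base = (pullback.fst f b).base ⁻¹' Set.range m.base := by
    have h1 : e = hsq.isoPullback.hom ≫ pullback.fst (pullback.fst f b) m :=
      hsq.isoPullback_hom_fst.symm
    rw [h1, Scheme.Hom.comp_base, TopCat.coe_comp, Set.range_comp,
      Set.range_eq_univ.2 hsq.isoPullback.hom.surjective, Set.image_univ]
    exact Scheme.Pullback.range_fst _ _
  have heo : Topology.IsOpenEmbedding e.base :=
    ⟨e.isEmbedding, by rw [herange]; exact hm.preimage (pullback.fst f b).continuous⟩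
  let ψ : Spec (CommRingCat.of (A ⊗[k] K)) ⟶ pullback f b := (pullbackSpecIso k A K).inv ≫ e
  have hψo : IsOpenMap ψ.base := by
    rw [Scheme.Hom.comp_base, TopCat.coe_comp]
    exact heo.isOpenMap.comp (pullbackSpecIso k A K).inv.homeomorph.isOpenMap
  haveI : IsNoetherianRing (A ⊗[k] K) := by
    haveI : IsNoetherianRing (K ⊗[k] A) := Algebra.FiniteType.isNoetherianRing K _
    exact isNoetherianRing_of_ringEquiv (K ⊗[k] A)
      (Algebra.TensorProduct.comm k K A).toRingEquiv
  let W : Set (PrimeSpectrum (A ⊗[k] K)) := ψ.base ⁻¹' (U' : Set _)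
  have hWo : IsOpen W := U'.isOpen.preimage ψ.continuous
  have hWd : Dense W := hU'.preimage hψo
  obtain ⟨J, hJ⟩ : ∃ J : Ideal (A ⊗[k] K), Wᶜ = PrimeSpectrum.zeroLocus (J : Set _) :=
    ((PrimeSpectrum.isClosed_iff_zeroLocus_ideal _).1 hWo.isClosed_compl)
  obtain ⟨s, g, hg, hgf⟩ := exists_finite_inj_algHom_of_fg k A
  obtain ⟨G, hG0, hGJ⟩ := exists_mem_tensor_ne_zero k K A g hg hgf J (fun q hq hJq => by
    have hqp : q.IsPrime := hq.1.1
    have h1 := mem_of_dense_of_minimal hWo hWd hq hqp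
    have h2 : (⟨q, hqp⟩ : PrimeSpectrum (A ⊗[k] K)) ∈ Wᶜ := by
      rw [hJ, PrimeSpectrum.mem_zeroLocus]; exact hJq
    exact h2 h1)
  let E : MvPolynomial (Fin s) k ⊗[k] K → MvPolynomial (Fin s) K := fun t =>
    MvPolynomial.algebraTensorAlgEquiv k K (Algebra.TensorProduct.comm k _ K t)
  have hE : E G ≠ 0 := fun h => hG0 (by
    have := h.trans (map_zero (MvPolynomial.algebraTensorAlgEquiv k K (σ := Fin s))).symm
    exact (Algebra.TensorProduct.comm k (MvPolynomial (Fin s) k) K).injective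
      (((MvPolynomial.algebraTensorAlgEquiv k K).injective this).trans (map_zero _).symm))
  obtain ⟨h, hh0, hh⟩ := exists_ne_zero_aeval_ne_zero k K (E G) hE
  have hgh : g h ≠ 0 := fun h0 => hh0 (hg (h0.trans (map_zero g).symm))
  refine ⟨⟨m.base '' ((PrimeSpectrum.basicOpen (g h) : TopologicalSpace.Opens (PrimeSpectrum A)) : Set (PrimeSpectrum A)),
    hmo.isOpenMap (PrimeSpectrum.basicOpen (g h) : Set (PrimeSpectrum A)) (PrimeSpectrum.basicOpen (g h)).isOpen⟩, ?_, Set.image_subset_range _ _, ?_⟩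
  · refine Set.Nonempty.image _ ⟨⟨⊥, Ideal.isPrime_bot⟩, ?_⟩
    exact fun h0 => hgh ((Ideal.mem_bot).1 h0)
  intro kb Ω _ _ _ _ _ _ _ _ _ x hxf hx y hy1 hy2 t
  haveI : Algebra.IsAlgebraic k kb := IsAlgClosure.isAlgebraic
  obtain ⟨a, hax⟩ := hlift kb x (by
    rintro _ ⟨t', rfl⟩
    exact Set.image_subset_range _ _ (hx t'))
  let a' : A →ₐ[k] kb :=
    { a with
      commutes' := fun r => by
        have h1 : Spec.map (CommRingCat.ofHom (a.comp (algebraMap k A))) =
            Spec.map (CommRingCat.ofHom (algebraMap k kb)) := by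
          rw [← hxf, ← hax, Category.assoc, hmf, ← Spec.map_comp, CommRingCat.ofHom_comp]
        exact RingHom.congr_fun (congrArg CommRingCat.Hom.hom (Spec.map_injective h1)) r }
  have hagh : a (g h) ≠ 0 := by
    intro h0
    obtain ⟨t₀⟩ : Nonempty ↥(Spec (CommRingCat.of kb)) :=
      inferInstanceAs (Nonempty (PrimeSpectrum kb))
    obtain ⟨p, hp, hpe⟩ := hx t₀
    rw [← hax, Scheme.Hom.comp_apply] at hpe
    have := hmo.injective hpe
    subst this
    exact hp (show a (g h) ∈ (t₀ : PrimeSpectrum kb).asIdeal by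
      rw [h0]; exact Ideal.zero_mem _)
  let pt : Fin s → kb := fun i => a (g (MvPolynomial.X i))
  have hpt : ∀ p, MvPolynomial.aeval pt p = a (g p) := fun p =>
    (AlgHom.congr_fun (MvPolynomial.algHom_ext (f := MvPolynomial.aeval pt) (g := a'.comp g)
      (fun i => by rw [MvPolynomial.aeval_X]; rfl)) p)
  let Φ : A ⊗[k] K →ₐ[k] Ω :=
    Algebra.TensorProduct.lift ((IsScalarTower.toAlgHom k kb Ω).comp a')
      (IsScalarTower.toAlgHom k K Ω) (fun _ _ => Commute.all _ _)
  have hy : Spec.map (CommRingCat.ofHom Φ.toRingHom) ≫ ψ = y := by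
    apply pullback.hom_ext
    · rw [hy1, ← hax]
      simp only [ψ, e, Category.assoc, pullback.lift_fst]
      rw [pullbackSpecIso_inv_fst_assoc, ← Spec.map_comp_assoc, ← Spec.map_comp_assoc,
        ← CommRingCat.ofHom_comp, ← CommRingCat.ofHom_comp]
      congr 3
      ext r
      simp [Φ]
      rfl
    · rw [hy2]
      simp only [ψ, e, Category.assoc, pullback.lift_snd, Category.comp_id]
      rw [pullbackSpecIso_inv_snd, ← Spec.map_comp, ← CommRingCat.ofHom_comp]
      congr 2
      ext r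
      simp [Φ]
  rw [← hy, Scheme.Hom.comp_apply]
  by_contra hnot
  have hmem : (Spec.map (CommRingCat.ofHom Φ.toRingHom)).base t ∈
      PrimeSpectrum.zeroLocus (J : Set _) := hJ ▸ hnot
  have h1 := hmem hGJ
  have h2 : Φ (Algebra.TensorProduct.map g (AlgHom.id k K) G) ∈ (t : PrimeSpectrum Ω).asIdeal := h1
  rw [Subsingleton.elim (t : PrimeSpectrum Ω) ⟨⊥, Ideal.isPrime_bot⟩, Ideal.mem_bot] at h2
  have h3 : ∀ t : MvPolynomial (Fin s) k ⊗[k] K,
      Φ (Algebra.TensorProduct.map g (AlgHom.id k K) t) =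
        MvPolynomial.aeval (fun i => algebraMap kb Ω (pt i)) (E t) := by
    intro t
    induction t with
    | zero => simp [E]
    | add t₁ t₂ h₁ h₂ => rw [map_add, map_add, h₁, h₂]; simp [E, map_add]
    | tmul p c =>
      simp only [E, Algebra.TensorProduct.comm_tmul, MvPolynomial.algebraTensorAlgEquiv_tmul,
        map_smul, MvPolynomial.aeval_map_algebraMap, Algebra.TensorProduct.map_tmul]
      rw [show (fun i => algebraMap kb Ω (pt i)) = fun i => (IsScalarTower.toAlgHom k kb Ω) (pt i) from rfl,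
        ← MvPolynomial.comp_aeval_apply, hpt, Algebra.smul_def]
      simp [Φ, mul_comm]
      exact Or.inl rfl
  rw [h3] at h2
  exact hh kb Ω pt (by rw [hpt]; exact hagh) h2

theorem exists_dense_isGood [LocallyOfFiniteType f] [QuasiCompact f]
    (U' : (pullback f (Spec.map (CommRingCat.ofHom (algebraMap k K)))).Opens)
    (hU' : Dense (U' : Set ↥(pullback f (Spec.map (CommRingCat.ofHom (algebraMap k K)))))) :
    ∃ U : X.Opens, Dense (U : Set ↥X) ∧ IsGood X f U' U := by
  classical
  refine ⟨_, ?_, isGood_sSup X f U'⟩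
  haveI : IsLocallyNoetherian X := LocallyOfFiniteType.isLocallyNoetherian f
  rw [dense_iff_inter_open]
  intro O hO hOne
  obtain ⟨x₀, hx₀⟩ := hOne
  -- an irreducible affine open inside `O`
  obtain ⟨_, ⟨V₀, hV₀ : IsAffineOpen V₀, rfl⟩, hxV₀, hV₀O⟩ :=
    X.isBasis_affineOpens.exists_subset_of_mem_open hx₀ hO
  haveI : IsNoetherianRing Γ(X, V₀) := IsLocallyNoetherian.component_noetherian ⟨V₀, hV₀⟩
  obtain ⟨q, hq⟩ : (minimalPrimes Γ(X, V₀)).Nonempty := by
    let p₁ : PrimeSpectrum Γ(X, V₀) := hV₀.isoSpec.hom.base ⟨x₀, hxV₀⟩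
    obtain ⟨q, hq, -⟩ := Ideal.exists_minimalPrimes_le (I := (⊥ : Ideal Γ(X, V₀)))
      (J := p₁.asIdeal) bot_le
    exact ⟨q, hq⟩
  have hZ : PrimeSpectrum.zeroLocus (q : Set Γ(X, V₀)) ∈
      irreducibleComponents (PrimeSpectrum Γ(X, V₀)) := by
    rw [← PrimeSpectrum.zeroLocus_minimalPrimes]
    exact ⟨q, hq, rfl⟩
  obtain ⟨o, ho, hone, hole⟩ :=
    TopologicalSpace.NoetherianSpace.exists_isOpen_nonempty_subset_irreducibleComponent _ hZ
  obtain ⟨p₀, hp₀⟩ := hone
  obtain ⟨_, ⟨r, rfl⟩, hpr, hro⟩ :=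
    PrimeSpectrum.isTopologicalBasis_basic_opens.exists_subset_of_mem_open hp₀ ho
  let V : X.Opens := X.basicOpen r
  have hV : IsAffineOpen V := hV₀.basicOpen r
  have hVimg : (V : Set X) = hV₀.fromSpec.base '' ((PrimeSpectrum.basicOpen r : TopologicalSpace.Opens (PrimeSpectrum Γ(X, V₀))) : Set (PrimeSpectrum Γ(X, V₀))) := by
    exact (congrArg (fun O : X.Opens => (O : Set X)) (hV₀.fromSpec_image_basicOpen r)).symm
  have hVirr : IsIrreducible (V : Set X) := by
    rw [hVimg]
    refine IsIrreducible.image ⟨⟨_, hpr⟩, ?_⟩ _ hV₀.fromSpec.continuous.continuousOn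
    have hzi : IsIrreducible (PrimeSpectrum.zeroLocus (q : Set Γ(X, V₀))) := hZ.1
    intro u v hu hv ⟨a, ha, hau⟩ ⟨b, hb, hbv⟩
    obtain ⟨c, -, hcu, hcv⟩ := hzi.2 ((PrimeSpectrum.basicOpen r : Set _) ∩ u)
      ((PrimeSpectrum.basicOpen r : Set _) ∩ v)
      ((PrimeSpectrum.basicOpen r).isOpen.inter hu) ((PrimeSpectrum.basicOpen r).isOpen.inter hv)
      ⟨a, hole (hro ha), ha, hau⟩ ⟨b, hole (hro hb), hb, hbv⟩
    exact ⟨c, hcu.1, hcu.2, hcv.2⟩
  -- the reduced ring of functions is a domain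
  let N := nilradical Γ(X, V)
  haveI : N.IsPrime := by
    have hirr : IsIrreducible (Set.univ : Set (PrimeSpectrum Γ(X, V))) := by
      have hpre : IsPreirreducible (hV.fromSpec.base ⁻¹' (V : Set X)) :=
        hVirr.2.preimage hV.fromSpec.isOpenEmbedding
      rw [← hV.range_fromSpec, Set.preimage_range] at hpre
      obtain ⟨z, hz⟩ := hVirr.1
      obtain ⟨w, -⟩ := (hV.range_fromSpec ▸ hz : z ∈ Set.range hV.fromSpec.base)
      exact ⟨⟨w, trivial⟩, hpre⟩
    have h := PrimeSpectrum.isIrreducible_iff_vanishingIdeal_isPrime.1 hirr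
    rwa [← PrimeSpectrum.zeroLocus_bot, PrimeSpectrum.vanishingIdeal_zeroLocus_eq_radical] at h
  let m : Spec (CommRingCat.of (Γ(X, V) ⧸ N)) ⟶ X :=
    Spec.map (CommRingCat.ofHom (Ideal.Quotient.mk N)) ≫ hV.fromSpec
  haveI : IsClosedImmersion (Spec.map (CommRingCat.ofHom (Ideal.Quotient.mk N))) :=
    IsClosedImmersion.spec_of_surjective _ Ideal.Quotient.mk_surjective
  have hms : Set.range m.base = (V : Set X) := by
    rw [Scheme.Hom.comp_base, TopCat.coe_comp, Set.range_comp]
    have : Set.range (Spec.map (CommRingCat.ofHom (Ideal.Quotient.mk N))).base = Set.univ := by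
      have h := range_comap_of_surjective _ (Ideal.Quotient.mk N)
        Ideal.Quotient.mk_surjective
      rw [Ideal.mk_ker] at h
      exact Eq.trans h ((PrimeSpectrum.zeroLocus_eq_univ_iff _).2 le_rfl)
    rw [this, Set.image_univ, hV.range_fromSpec]
  letI : Algebra k (Γ(X, V) ⧸ N) := (Spec.preimage (m ≫ f)).hom.toAlgebra
  have hmf : m ≫ f = Spec.map (CommRingCat.ofHom (algebraMap k (Γ(X, V) ⧸ N))) :=
    (Spec.map_preimage (m ≫ f)).symm
  haveI : Algebra.FiniteType k (Γ(X, V) ⧸ N) := by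
    have : LocallyOfFiniteType (Spec.map (CommRingCat.ofHom (algebraMap k (Γ(X, V) ⧸ N)))) :=
      hmf ▸ inferInstance
    exact RingHom.finiteType_algebraMap.1 (HasRingHomProperty.Spec_iff.1 this)
  obtain ⟨U, hUne, hUV, hUgood⟩ := exists_good_of_domain X f U' hU' (Γ(X, V) ⧸ N) m
    (by rw [hms]; exact V.isOpen) hmf (fun kb _ x hx => by
      have hx' : Set.range x.base ⊆ Set.range hV.fromSpec.base := by
        rw [hV.range_fromSpec, ← hms]; exact hx
      let α := Spec.preimage (IsOpenImmersion.lift hV.fromSpec x hx')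
      refine ⟨Ideal.Quotient.lift N α.hom (fun c hc => (IsNilpotent.map hc α.hom).eq_zero), ?_⟩
      rw [← Category.assoc, ← Spec.map_comp, ← CommRingCat.ofHom_comp, Ideal.Quotient.lift_comp_mk,
        CommRingCat.ofHom_hom, Spec.map_preimage, IsOpenImmersion.lift_fac])
  obtain ⟨z, hz⟩ := hUne
  refine ⟨z, hV₀O ?_, TopologicalSpace.Opens.mem_sSup.2 ⟨U, hUgood, hz⟩⟩
  have hzV := hUV hz
  rw [hms] at hzV
  exact X.basicOpen_le r hzV

end Groth.Agent.DenseK8
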